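import Cfsg.Agent.OddHalf.Quat.NoThreeTools
import Cfsg.Agent.S0813
import Cfsg.Agent.S0265
import Cfsg.Prelude.Def_Classical
import Cfsg.Agent.StandardComponent.AltAut
import Cfsg.Agent.S0252
import Cfsg.Agent.S0254
import Cfsg.Agent.UGT.EndJ1.Data
import Cfsg.Agent.Lib.AltCarmichael
import Cfsg.Agent.FastGrp
import Cfsg.Agent.Prune
set_option linter.all false

section
prune_inst 0x7f00000000000000000000000000000000000000000000000000000000000000000000000000000000000000000000000000000000000000000000000000000000000000000000000000000000000000003fffffffffffffffffffffffffffbeffbdffffffff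

-- part: OddHalf/Quat/NoThreeCrit
section
set_option linter.all false
open scoped Cfsg.Agent.FastGrp

/-!
# Node Q: `NoThree`, criteria

* `of_three_power` : enough to consider automorphisms of 3-power order;
* `of_characteristic` : `K` and a subgroup `H = N_K(H)` which is determined up to conjugation;
* `of_centralizer` : the case `H = C_K(t)`;
* `of_quotient` : passage from `C / Q` to `C`.
-/

set_option autoImplicit false

namespace Cfsg.Agent.OddHalf.Quat.NoThreeCrit

open Subgroup

variable {K : Type*} [Group K]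

theorem finite_aut [Finite K] : Finite (MulAut K) :=
  Finite.of_injective (fun σ : MulAut K => (σ : K → K)) DFunLike.coe_injective

/-- an automorphism `α` with `α ^ 3` inner is inner if its 3-part is inner -/
theorem mem_of_three_part [Finite K] {α : MulAut K} (h3 : α * α * α ∈ (MulAut.conj : K →* MulAut K).range)
    (h : ∀ n : ℕ, (∃ k : ℕ, (α ^ n) ^ (3 ^ k) = 1) → α ^ n ∈ (MulAut.conj : K →* MulAut K).range) : α ∈ (MulAut.conj : K →* MulAut K).range := by
  have hfin := finite_aut (K := K)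
  have hpos : orderOf α ≠ 0 := (orderOf_pos α).ne'
  obtain ⟨k, m, hm, he⟩ := Nat.exists_eq_pow_mul_and_not_dvd hpos 3 (by norm_num)
  have h1 : (α ^ m) ^ (3 ^ k) = 1 := by
    rw [← pow_mul, mul_comm, ← he, pow_orderOf_eq_one]
  exact NoThree.of_pow_apply hm h3 (h m ⟨k, h1⟩)

theorem of_three_power [Finite K] (h : ∀ α : MulAut K, (∃ k : ℕ, α ^ (3 ^ k) = 1) → α ∈ (MulAut.conj : K →* MulAut K).range) : NoThree K :=
  fun _ hα => mem_of_three_part hα fun _ hk => h _ hk

theorem odd_of_three_power {A : Type*} [Group A] {a : A} {k : ℕ} (h : a ^ (3 ^ k) = 1) : Odd (orderOf a) :=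
  Odd.of_dvd_nat (Odd.pow (by decide)) (orderOf_dvd_of_pow_eq_one h)

/-- automorphisms of odd order are inner -/
theorem of_odd [Finite K] (h : ∀ α : MulAut K, Odd (orderOf α) → α ∈ (MulAut.conj : K →* MulAut K).range) : NoThree K :=
  of_three_power fun α ⟨_, hk⟩ => h α (odd_of_three_power hk)

/-- cubes modulo inner automorphisms -/
theorem cube_mem {α β : MulAut K} (h : ∃ g : K, α = MulAut.conj g * β) (h3 : α * α * α ∈ (MulAut.conj : K →* MulAut K).range) :
    β * β * β ∈ (MulAut.conj : K →* MulAut K).range := by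
  have hn := NoThree.normal_inn (K := K)
  obtain ⟨g, rfl⟩ := h
  have hg : MulAut.conj g ∈ (MulAut.conj : K →* MulAut K).range := ⟨g, rfl⟩
  have e : ((MulAut.conj g * β : MulAut K) : MulAut K ⧸ (MulAut.conj : K →* MulAut K).range) =
      (β : MulAut K ⧸ (MulAut.conj : K →* MulAut K).range) := by
    rw [QuotientGroup.mk_mul, (QuotientGroup.eq_one_iff _).2 hg, one_mul]
  rw [← QuotientGroup.eq_one_iff] at h3 ⊢
  rw [QuotientGroup.mk_mul, QuotientGroup.mk_mul, e] at h3
  rw [QuotientGroup.mk_mul, QuotientGroup.mk_mul, h3]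

theorem mem_of_mul {β : MulAut K} {g : K} (h : β ∈ (MulAut.conj : K →* MulAut K).range) :
    MulAut.conj g * β ∈ (MulAut.conj : K →* MulAut K).range :=
  (MulAut.conj : K →* MulAut K).range.mul_mem ⟨g, rfl⟩ h

/-- the restriction of an automorphism to an invariant subgroup of a finite group -/
theorem exists_res [Finite K] {H : Subgroup K} {β : MulAut K} (h : ∀ x ∈ H, β x ∈ H) :
    ∃ γ : MulAut H, ∀ x : H, ((γ x : H) : K) = β x := by
  let f : H →* H := (β.toMonoidHom.comp H.subtype).codRestrict H fun x => h x x.2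
  have hinj : Function.Injective f := by
    intro a b hab
    apply Subtype.ext
    exact β.injective (congrArg (fun y : H => (y : K)) hab)
  exact ⟨MulEquiv.ofBijective f ⟨hinj, Finite.surjective_of_injective hinj⟩, fun x => rfl⟩

/-- **Criterion with a subgroup `H` determined up to conjugation.** -/
theorem of_stable [Finite K] (H : Subgroup K) (hN : ∀ g : K, (∀ x ∈ H, g * x * g⁻¹ ∈ H) → g ∈ H)
    (hst : ∀ α : MulAut K, ∃ g : K, ∀ x ∈ H, g * α x * g⁻¹ ∈ H) (hH : NoThree H)
    (hfix : ∀ δ : MulAut K, (∃ k : ℕ, δ ^ (3 ^ k) = 1) → (∀ x ∈ H, δ x = x) → δ ∈ (MulAut.conj : K →* MulAut K).range) : NoThree K := by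
  intro α hα
  obtain ⟨g, hg⟩ := hst α
  set β : MulAut K := MulAut.conj g * α with hβ
  have hαβ : α = MulAut.conj g⁻¹ * β := by rw [hβ, map_inv, inv_mul_cancel_left]
  have hβ3 : β * β * β ∈ (MulAut.conj : K →* MulAut K).range := cube_mem ⟨g⁻¹, hαβ⟩ hα
  rw [hαβ]
  apply mem_of_mul
  have hβH : ∀ x ∈ H, β x ∈ H := fun x hx => by
    rw [hβ, MulAut.mul_apply, MulAut.conj_apply]
    exact hg x hx
  obtain ⟨γ, hγ⟩ := exists_res hβH
  obtain ⟨c, hc⟩ := hβ3
  have hcH : c ∈ H := by
    apply hN
    intro x hx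
    have h1 : (MulAut.conj c) x = β (β (β x)) := by rw [hc]; rfl
    rw [MulAut.conj_apply] at h1
    rw [h1]
    exact hβH _ (hβH _ (hβH _ hx))
  have hγ3 : γ * γ * γ ∈ (MulAut.conj : H →* MulAut H).range := by
    refine ⟨⟨c, hcH⟩, ?_⟩
    ext x
    have h1 : (MulAut.conj c) (x : K) = β (β (β x)) := by rw [hc]; rfl
    rw [MulAut.conj_apply] at h1
    show c * x * c⁻¹ = ((γ (γ (γ x)) : H) : K)
    rw [hγ, hγ, hγ, h1]
  obtain ⟨a, ha⟩ := hH γ hγ3
  have ha' : ∀ x ∈ H, β x = a * x * (a : K)⁻¹ := by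
    intro x hx
    rw [← hγ ⟨x, hx⟩, ← ha]
    rfl
  set δ : MulAut K := MulAut.conj (a : K)⁻¹ * β with hδ
  have hβδ : β = MulAut.conj (a : K) * δ := by rw [hδ, map_inv, mul_inv_cancel_left]
  have hδ3 : δ * δ * δ ∈ (MulAut.conj : K →* MulAut K).range := cube_mem ⟨_, hβδ⟩ ⟨c, hc⟩
  have hδH : ∀ x ∈ H, δ x = x := by
    intro x hx
    rw [hδ, MulAut.mul_apply, MulAut.conj_apply, ha' x hx]
    group
  rw [hβδ]
  apply mem_of_mul
  refine mem_of_three_part hδ3 fun n hn => hfix _ hn ?_
  intro x hx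
  have : ∀ n : ℕ, (δ ^ n) x = x := by
    intro n
    induction n with
    | zero => rfl
    | succ n ih => rw [pow_succ, MulAut.mul_apply, hδH x hx, ih]
  exact this n

/-- **Criterion with a centralizer.** -/
theorem of_centralizer [Finite K] (t : K) (hst : ∀ α : MulAut K, ∃ g : K, g * α t * g⁻¹ = t)
    (hZ : ∀ g : K, (∀ x : K, x * t = t * x → (g * x * g⁻¹) * t = t * (g * x * g⁻¹)) → g * t = t * g)
    (hH : NoThree (centralizer ({t} : Set K)))
    (hfix : ∀ δ : MulAut K, (∃ k : ℕ, δ ^ (3 ^ k) = 1) → (∀ x, x * t = t * x → δ x = x) → δ ∈ (MulAut.conj : K →* MulAut K).range) :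
    NoThree K := by
  refine of_stable (centralizer ({t} : Set K)) ?_ ?_ hH ?_
  · intro g hg
    rw [mem_centralizer_singleton_iff]
    apply hZ
    intro x hx
    exact mem_centralizer_singleton_iff.1 (hg x (mem_centralizer_singleton_iff.2 hx))
  · intro α
    obtain ⟨g, hg⟩ := hst α
    refine ⟨g, fun x hx => ?_⟩
    rw [mem_centralizer_singleton_iff] at hx ⊢
    have h1 : α x * α t = α t * α x := by rw [← map_mul, hx, map_mul]
    calc g * α x * g⁻¹ * t = g * α x * g⁻¹ * (g * α t * g⁻¹) := by rw [hg]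
      _ = g * (α x * α t) * g⁻¹ := by group
      _ = g * (α t * α x) * g⁻¹ := by rw [h1]
      _ = (g * α t * g⁻¹) * (g * α x * g⁻¹) := by group
      _ = t * (g * α x * g⁻¹) := by rw [hg]
  · intro δ hk hδ
    exact hfix δ hk fun x hx => hδ x (mem_centralizer_singleton_iff.2 hx)

/-- **Passage from `C / Q` to `C`**: `π : C →* L` onto with invariant kernel, `NoThree L`, and the automorphisms which
are trivial on `L` have 2-power order modulo inner ones. -/
theorem of_quotient {C L : Type*} [Group C] [Group L] (π : C →* L) (hπ : Function.Surjective π)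
    (hker : ∀ γ : MulAut C, ∀ c, π c = 1 → π (γ c) = 1) (hL : NoThree L)
    (htriv : ∀ δ : MulAut C, (∀ c, π (δ c) = π c) →
      ∃ n : ℕ, ¬ 3 ∣ n ∧ δ ^ n ∈ (MulAut.conj : C →* MulAut C).range) : NoThree C := by
  intro γ hγ
  -- the induced automorphism
  have hker' : ∀ c, π (γ c) = 1 → π c = 1 := fun c h => by
    have h1 := hker γ⁻¹ _ h
    rwa [MulAut.inv_apply_self] at h1
  have hwd : ∀ (γ' : MulAut C) (c d : C), π c = π d → π (γ' c) = π (γ' d) := by
    intro γ' c d h
    have h1 : π (c * d⁻¹) = 1 := by rw [map_mul, map_inv, h, mul_inv_cancel]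
    have h2 := hker γ' _ h1
    rw [map_mul, map_mul, map_inv, map_inv, mul_inv_eq_one] at h2
    exact h2
  let s : L → C := Function.surjInv hπ
  have hs : ∀ l, π (s l) = l := Function.surjInv_eq hπ
  let α : MulAut L :=
    { toFun := fun l => π (γ (s l))
      invFun := fun l => π (γ⁻¹ (s l))
      left_inv := fun l => by
        show π (γ⁻¹ (s (π (γ (s l))))) = l
        rw [hwd γ⁻¹ _ (γ (s l)) (hs _), MulAut.inv_apply_self, hs]
      right_inv := fun l => by
        show π (γ (s (π (γ⁻¹ (s l))))) = l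
        rw [hwd γ _ (γ⁻¹ (s l)) (hs _), MulAut.apply_inv_self, hs]
      map_mul' := fun a b => by
        rw [← map_mul, ← map_mul]
        apply hwd γ
        rw [hs, map_mul, hs, hs] }
  have hα : ∀ c, α (π c) = π (γ c) := fun c => hwd γ _ _ (hs _)
  obtain ⟨c, hc⟩ := hγ
  have hα3 : α * α * α ∈ (MulAut.conj : L →* MulAut L).range := by
    refine ⟨π c, ?_⟩
    ext l
    obtain ⟨d, rfl⟩ := hπ l
    have h1 : (MulAut.conj c) d = γ (γ (γ d)) := by rw [hc]; rfl
    show π c * π d * (π c)⁻¹ = α (α (α (π d)))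
    rw [hα, hα, hα, ← h1, MulAut.conj_apply, map_mul, map_mul, map_inv]
  obtain ⟨l, hl⟩ := hL α hα3
  obtain ⟨a, rfl⟩ := hπ l
  set δ : MulAut C := MulAut.conj a⁻¹ * γ with hδ
  have hγδ : γ = MulAut.conj a * δ := by rw [hδ, map_inv, mul_inv_cancel_left]
  have hδπ : ∀ x, π (δ x) = π x := by
    intro x
    have h1 : π (γ x) = π a * π x * (π a)⁻¹ := by rw [← hα, ← hl]; rfl
    rw [hδ, MulAut.mul_apply, MulAut.conj_apply, map_mul, map_mul, h1, map_inv, inv_inv]
    group
  obtain ⟨n, hn, hδn⟩ := htriv δ hδπ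
  have hδ3 : δ * δ * δ ∈ (MulAut.conj : C →* MulAut C).range := cube_mem ⟨a, hγδ⟩ ⟨c, hc⟩
  rw [hγδ]
  exact mem_of_mul (NoThree.of_pow_apply hn hδ3 hδn)

end Cfsg.Agent.OddHalf.Quat.NoThreeCrit
end

-- part: OddHalf/Quat/NoThreeL
section
set_option linter.all false
open scoped Cfsg.Agent.FastGrp

/-!
# Node Q: `NoThree` for `L₂(p^f)` with `3 ∤ f` and for `Lₙ(2)`
-/

set_option autoImplicit false

namespace Cfsg.Agent.OddHalf.Quat.NoThreeL

open Subgroup

variable {K : Type*} [Group K]

theorem normal_inn : ((MulAut.conj : K →* MulAut K).range).Normal := by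
  refine ⟨?_⟩
  rintro _ ⟨g, rfl⟩ φ
  refine ⟨φ g, ?_⟩
  ext x
  show φ g * x * (φ g)⁻¹ = φ (g * φ⁻¹ x * g⁻¹)
  rw [map_mul, map_mul, map_inv]
  congr 2
  exact (φ.apply_symm_apply x).symm

/-- enough: `3` does not divide `|Out(K)|` -/
theorem noThree_of_index (h : ¬ 3 ∣ ((MulAut.conj : K →* MulAut K).range).index) : NoThree K := by
  intro α hα
  have hn := normal_inn (K := K)
  set N := (MulAut.conj : K →* MulAut K).range with hN
  rw [← QuotientGroup.eq_one_iff (N := N)] at hα ⊢
  have h1 : ((α : MulAut K ⧸ N)) ^ 3 = 1 := by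
    rw [pow_three, ← mul_assoc]
    exact hα
  have h2 : orderOf (α : MulAut K ⧸ N) ∣ 3 := orderOf_dvd_of_pow_eq_one h1
  rcases (Nat.dvd_prime Nat.prime_three).mp h2 with h3 | h3
  · exact orderOf_eq_one_iff.mp h3
  · exfalso
    apply h
    rw [← h3, index]
    exact orderOf_dvd_natCard _

theorem noThree_of_card [Finite K] (hcen : center K = ⊥) {m : ℕ} (hm : ¬ 3 ∣ m)
    (h : Nat.card (MulAut K) = m * Nat.card K) : NoThree K := by
  apply noThree_of_index
  have h1 : Nat.card ↥((MulAut.conj : K →* MulAut K).range) = Nat.card K := by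
    refine (Nat.card_congr (MonoidHom.ofInjective ?_).toEquiv).symm
    rw [← MonoidHom.ker_eq_bot_iff, eq_bot_iff]
    intro x hx
    rw [← hcen, mem_center_iff]
    intro g
    have h2 : MulAut.conj x g = g := by
      rw [(MonoidHom.mem_ker).mp hx]
      rfl
    have h3 : x * g * x⁻¹ = g := h2
    rw [mul_inv_eq_iff_eq_mul] at h3
    exact h3.symm
  have h2 := ((MulAut.conj : K →* MulAut K).range).card_mul_index
  rw [h1, h, mul_comm m] at h2
  rwa [Nat.eq_of_mul_eq_mul_left Nat.card_pos h2]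

/-- transport of the number of automorphisms -/
theorem card_mulAut_congr {L : Type*} [Group L] (e : K ≃* L) : Nat.card (MulAut K) = Nat.card (MulAut L) :=
  Nat.card_congr (MulAut.congr e).toEquiv

theorem card_SL {F : Type*} [Field F] [Fintype F] (n : ℕ) :
    Nat.card (Matrix.SpecialLinearGroup (Fin n) F) =
      Nat.card ↥(center (Matrix.SpecialLinearGroup (Fin n) F)) *
        Nat.card (Matrix.ProjectiveSpecialLinearGroup (Fin n) F) := by
  rw [mul_comm]
  exact Subgroup.card_eq_card_quotient_mul_card_subgroup _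

/-- **`L₂(p^f)`, `3 ∤ f`** -/
theorem two {F : Type*} [Field F] [Fintype F] (p f : ℕ) [Fact p.Prime] (hf : 1 ≤ f)
    (hF : Fintype.card F = p ^ f) (h4 : 4 ≤ p ^ f) (h3 : ¬ 3 ∣ f) (hcen : center K = ⊥)
    (e : K ≃* Matrix.ProjectiveSpecialLinearGroup (Fin 2) F) : NoThree K := by
  haveI : Finite K := Finite.of_equiv _ e.symm.toEquiv
  have h1 := Cfsg.Agent.S0813.result (F := F) p f hf hF 2 le_rfl (fun _ => h4)
  rw [if_pos rfl, one_mul, Cfsg.Agent.S0265.result, card_SL, ← card_mulAut_congr e, ← Nat.card_congr e.toEquiv,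
    ← mul_assoc] at h1
  refine noThree_of_card hcen ?_ h1
  intro hd
  rcases (Nat.Prime.dvd_mul Nat.prime_three).mp hd with hd | hd
  · exact h3 hd
  · have h5 : Nat.card ↥(center (Matrix.SpecialLinearGroup (Fin 2) F)) ≤ 2 := by
      rw [Nat.card_congr (Matrix.SpecialLinearGroup.center_equiv_rootsOfUnity' (0 : Fin 2)).toEquiv,
        Fintype.card_fin]
      exact card_rootsOfUnity F _
    have h6 := Nat.le_of_dvd Nat.card_pos hd
    omega

/-- **`Lₙ(2)`, `n ≥ 3`** -/
theorem linear {F : Type*} [Field F] [Fintype F] (hF : Fintype.card F = 2) {n : ℕ} (hn : 3 ≤ n)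
    (hcen : center K = ⊥) (e : K ≃* Matrix.ProjectiveSpecialLinearGroup (Fin n) F) : NoThree K := by
  haveI : Finite K := Finite.of_equiv _ e.symm.toEquiv
  haveI : Fact (Nat.Prime 2) := ⟨Nat.prime_two⟩
  have h1 := Cfsg.Agent.S0813.result (F := F) 2 1 le_rfl (by rw [hF, pow_one]) n (by omega) (fun h => by omega)
  rw [if_neg (by omega), mul_one, Cfsg.Agent.S0265.result, card_SL, ← card_mulAut_congr e,
    ← Nat.card_congr e.toEquiv, ← mul_assoc] at h1
  refine noThree_of_card hcen ?_ h1
  have h5 : Nat.card ↥(center (Matrix.SpecialLinearGroup (Fin n) F)) = 1 := by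
    rw [Nat.card_congr (Matrix.SpecialLinearGroup.center_equiv_rootsOfUnity' (⟨0, by omega⟩ : Fin n)).toEquiv]
    classical
    have h6 : Fintype.card Fˣ = 1 := by
      rw [Fintype.card_units, hF]
    haveI : Subsingleton Fˣ := Fintype.card_le_one_iff_subsingleton.mp h6.le
    haveI : Subsingleton ↥(rootsOfUnity (Fintype.card (Fin n)) F) := inferInstance
    exact Nat.card_of_subsingleton 1
  rw [h5]
  norm_num

end Cfsg.Agent.OddHalf.Quat.NoThreeL
end

-- part: OddHalf/Quat/NoThreeSpor/J1
section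
set_option linter.all false
open scoped Cfsg.Agent.FastGrp

-- merged: Cfsg.Agent.OddHalf.Quat.NoThreeAlt
section

/-!
# Node Q: `NoThree` for the alternating groups
-/

set_option autoImplicit false

namespace Cfsg.Agent.OddHalf.Quat

open Subgroup

namespace NoThreeAlt

open Equiv

theorem of_large {m : ℕ} (hm : 5 ≤ m) : NoThree (alternatingGroup (Fin (m + 2))) := by
  apply NoThree.of_pow (n := 2) (by norm_num)
  intro α
  obtain ⟨σ, hσ⟩ := Cfsg.Agent.StandardComponent.AltAut.exists_conj hm α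
  refine ⟨⟨σ * σ, by rw [Equiv.Perm.mem_alternatingGroup, Equiv.Perm.sign_mul, Int.units_mul_self]⟩, ?_⟩
  ext x : 1
  apply Subtype.ext
  rw [pow_two, MulAut.mul_apply, hσ, hσ]
  show (σ * σ) * (x : Perm (Fin (m + 2))) * (σ * σ)⁻¹ = _
  group

theorem center_eq_bot {n : ℕ} (hn : 5 ≤ n) : center (alternatingGroup (Fin n)) = ⊥ := by
  have hs : IsSimpleGroup (alternatingGroup (Fin n)) := alternatingGroup.isSimpleGroup (by simpa using hn)
  rcases (inferInstance : (center (alternatingGroup (Fin n))).Normal).eq_bot_or_eq_top with h | h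
  · exact h
  · exfalso
    have hcomm : ∀ a b : alternatingGroup (Fin n), a * b = b * a := fun a b =>
      (mem_center_iff.mp (h ▸ mem_top b : b ∈ center (alternatingGroup (Fin n))) a)
    have h1 : IsMulCommutative (alternatingGroup (Fin n)) := ⟨⟨hcomm⟩⟩
    have h2 := IsSimpleGroup.comm_iff_isSolvable.1 hcomm
    have h3 : (Nat.card (alternatingGroup (Fin n))).Prime := by
      let _ : CommGroup (alternatingGroup (Fin n)) := { (inferInstance : Group (alternatingGroup (Fin n))) with mul_comm := hcomm }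
      exact IsSimpleGroup.prime_card
    have : Nontrivial (Fin n) := Fin.nontrivial_iff_two_le.mpr (by omega)
    have h4 : 2 * Nat.card (alternatingGroup (Fin n)) = n.factorial := by
      have := two_mul_nat_card_alternatingGroup (α := Fin n)
      rw [this, Nat.card_perm, Nat.card_fin]
    -- `60 ∣ |A_n|`
    have h5 : 120 ∣ n.factorial := Nat.factorial_dvd_factorial hn
    rw [← h4] at h5
    have h6 : 60 ∣ Nat.card (alternatingGroup (Fin n)) := by
      have : 2 * 60 ∣ 2 * Nat.card (alternatingGroup (Fin n)) := h5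
      exact Nat.dvd_of_mul_dvd_mul_left (by norm_num) this
    have h7 : 2 ∣ Nat.card (alternatingGroup (Fin n)) := (by norm_num : 2 ∣ 60).trans h6
    have h8 := (Nat.prime_dvd_prime_iff_eq Nat.prime_two h3).mp h7
    rw [← h8] at h6
    exact absurd h6 (by norm_num)

theorem five : NoThree (alternatingGroup (Fin 5)) := by
  have : Fact (Nat.Prime 2) := ⟨Nat.prime_two⟩
  let _ : Fintype (GaloisField 2 2) := Fintype.ofFinite _
  have hc : Fintype.card (GaloisField 2 2) = 2 ^ 2 := by
    rw [← Nat.card_eq_fintype_card, GaloisField.card 2 2 (by norm_num)]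
  obtain ⟨e⟩ := Cfsg.Agent.S0252.result (F := GaloisField 2 2) (by rw [hc]; norm_num)
  exact NoThreeL.two 2 2 (by norm_num) hc (by norm_num) (by norm_num) (center_eq_bot le_rfl) e.symm

theorem six : NoThree (alternatingGroup (Fin 6)) := by
  have : Fact (Nat.Prime 3) := ⟨Nat.prime_three⟩
  let _ : Fintype (GaloisField 3 2) := Fintype.ofFinite _
  have hc : Fintype.card (GaloisField 3 2) = 3 ^ 2 := by
    rw [← Nat.card_eq_fintype_card, GaloisField.card 3 2 (by norm_num)]
  obtain ⟨e⟩ := Cfsg.Agent.S0254.result (F := GaloisField 3 2) (by rw [hc]; norm_num)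
  exact NoThreeL.two 3 2 (by norm_num) hc (by norm_num) (by norm_num) (center_eq_bot (by norm_num)) e.symm

/-- **the alternating groups** -/
theorem alt {n : ℕ} (hn : 5 ≤ n) : NoThree (alternatingGroup (Fin n)) := by
  by_cases h5 : n = 5
  · subst h5; exact five
  by_cases h6 : n = 6
  · subst h6; exact six
  obtain ⟨m, rfl⟩ : ∃ m, n = m + 2 := ⟨n - 2, by omega⟩
  exact of_large (by omega)

/-- **the alternating groups** -/
theorem row {K : Type*} [Group K] (h : Cfsg.IsAlternating K) : NoThree K := by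
  obtain ⟨n, hn, ⟨e⟩⟩ := h
  exact NoThree.congr e (alt hn)

end NoThreeAlt

end Cfsg.Agent.OddHalf.Quat

end

-- merged: Cfsg.Agent.OddHalf.Quat.NoThreeSpor.J1
section

/-!
# Node Q: `NoThree` for `J₁`

The centraliser of an involution is `2 × A₅`.
-/

set_option autoImplicit false

namespace Cfsg.Agent.OddHalf.Quat.NoThreeSpor.J1

open Subgroup Cfsg.Agent.UGT.EndJ1.Abs Cfsg.Agent.Lib.AltCarmichael

/-- a group of order `120` with a central involution and a subgroup `A₅` -/
theorem of_card {C : Type*} [Group C] (hC : Nat.card C = 120) {t : C} (ht : t * t = 1) (ht1 : t ≠ 1)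
    (htc : ∀ x : C, x * t = t * x) {y : ℕ → C} (hy : Rel 3 y) (hne : y 0 ≠ 1) :
    NoThree C ∧ ∀ z : C, (∀ x : C, x * z = z * x) → z = 1 ∨ z = t := by
  have hfin : Finite C := Nat.finite_of_card_ne_zero (by rw [hC]; norm_num)
  obtain ⟨f⟩ := nonempty_gen_equiv (m := 3) le_rfl hy ⟨0, by norm_num, hne⟩
  have h60 : Nat.card (alternatingGroup (Fin 5)) = 60 := by
    have h := two_mul_nat_card_alternatingGroup (α := Fin 5)
    rw [Nat.card_perm, Nat.card_fin] at h
    have h5 : Nat.factorial 5 = 120 := rfl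
    omega
  let ψ : alternatingGroup (Fin 5) →* C ⧸ center C :=
    (QuotientGroup.mk' (center C)).comp ((gen 3 y).subtype.comp f.symm.toMonoidHom)
  have hψ : Function.Injective ψ := by
    rw [injective_iff_map_eq_one]
    intro a ha
    have h1 : ((f.symm a : gen 3 y) : C) ∈ center C := (QuotientGroup.eq_one_iff _).1 ha
    have h2 : a ∈ center (alternatingGroup (Fin 5)) := by
      rw [mem_center_iff]
      intro b
      have h3 := mem_center_iff.1 h1 ((f.symm b : gen 3 y) : C)
      have h4 : f.symm b * f.symm a = f.symm a * f.symm b := Subtype.ext h3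
      rw [← map_mul, ← map_mul] at h4
      exact f.symm.injective h4
    rw [NoThreeAlt.center_eq_bot le_rfl] at h2
    exact h2
  have hmul : Nat.card (C ⧸ center C) * Nat.card (center C) = 120 := by
    rw [← hC]
    exact ((center C).card_eq_card_quotient_mul_card_subgroup).symm
  have htZ : t ∈ center C := mem_center_iff.2 htc
  have h2 : 2 ≤ Nat.card (center C) := by
    have : Nontrivial (center C) := ⟨⟨⟨t, htZ⟩, 1, fun h => ht1 (congrArg Subtype.val h)⟩⟩
    exact Finite.one_lt_card
  have hle : 60 ≤ Nat.card (C ⧸ center C) := h60 ▸ Nat.card_le_card_of_injective _ hψ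
  have hZ2 : Nat.card (center C) = 2 := by nlinarith
  have hZ : ∀ z : C, z ∈ center C → z = 1 ∨ z = t := by
    intro z hz
    by_contra hcon
    push Not at hcon
    have h3 : Nat.card (zpowers t) = 2 := by
      rw [Nat.card_zpowers]
      exact orderOf_eq_prime (by rw [pow_two]; exact ht) ht1
    have h4 : zpowers t = center C := by
      apply Subgroup.eq_of_le_of_card_ge
      · rw [zpowers_le]; exact htZ
      · rw [h3, hZ2]
    rw [← h4, mem_zpowers_iff] at hz
    obtain ⟨k, rfl⟩ := hz
    have h5 : t ^ (2 : ℤ) = 1 := by rw [zpow_two, ht]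
    rcases Int.even_or_odd' k with ⟨j, rfl | rfl⟩
    · exact hcon.1 (by rw [zpow_mul, h5, one_zpow])
    · exact hcon.2 (by rw [zpow_add, zpow_mul, h5, one_zpow, one_mul, zpow_one])
  have hL : NoThree (C ⧸ center C) := by
    have hb : Function.Bijective ψ := by
      refine hψ.bijective_of_nat_card_le ?_
      rw [h60]
      rw [hZ2] at hmul
      omega
    exact NoThree.congr (MulEquiv.ofBijective ψ hb).symm NoThreeAlt.five
  have hmk : ∀ c : C, QuotientGroup.mk' (center C) c = 1 ↔ c ∈ center C := fun c => QuotientGroup.eq_one_iff c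
  have hchar : ∀ γ : MulAut C, ∀ c, c ∈ center C → γ c ∈ center C := by
    intro γ c hc
    rw [mem_center_iff] at hc ⊢
    intro d
    have h5 := congrArg γ (hc (γ⁻¹ d))
    rw [map_mul, map_mul, MulAut.apply_inv_self] at h5
    exact h5
  refine ⟨NoThreeCrit.of_quotient (QuotientGroup.mk' (center C)) (QuotientGroup.mk'_surjective _) ?_ hL ?_,
    fun z hz => hZ z (mem_center_iff.2 hz)⟩
  · intro γ c hc
    rw [hmk] at hc ⊢
    exact hchar γ c hc
  · intro δ hδ
    refine ⟨2, by norm_num, ?_⟩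
    have h6 : δ ^ 2 = 1 := by
      ext c
      have h7 : c⁻¹ * δ c ∈ center C := by
        rw [← hmk, map_mul, hδ c, map_inv, inv_mul_cancel]
      have h8 : ∀ z ∈ center C, δ z = z := by
        intro z hz
        rcases hZ z hz with rfl | rfl
        · exact map_one δ
        · rcases hZ _ (hchar δ _ hz) with h | h
          · exfalso
            apply ht1
            rw [← map_one δ] at h
            exact δ.injective h
          · exact h
      have h9 : c⁻¹ * δ c * (c⁻¹ * δ c) = 1 := by
        rcases hZ _ h7 with h | h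
        · rw [h, one_mul]
        · rw [h, ht]
      have h10 : δ c = c * (c⁻¹ * δ c) := by group
      rw [pow_two, MulAut.mul_apply, MulAut.one_apply]
      rw [h10, map_mul, h8 _ h7, h10]
      have h11 : c⁻¹ * (c * (c⁻¹ * δ c)) = c⁻¹ * δ c := by group
      rw [h11, mul_assoc, h9, mul_one]
    rw [h6]
    exact one_mem _

/-- the criterion for `J₁` -/
theorem of_dat {K : Type*} [Group K] (D : Dat K) {y : ℕ → K} (hy : Rel 3 y) (hc : ∀ i, y i * D.t = D.t * y i)
    (hne : y 0 ≠ 1) : NoThree K := by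
  have hfin := D.fin
  let y' : ℕ → centralizer ({D.t} : Set K) := fun i => ⟨y i, mem_centralizer_singleton_iff.2 (hc i)⟩
  have hy' : Rel 3 y' := ⟨fun i hi => Subtype.ext (hy.cube i hi), fun i hi j hj hij => Subtype.ext (hy.sq i hi j hj hij)⟩
  have htC : D.t ∈ centralizer ({D.t} : Set K) := mem_centralizer_singleton_iff.2 rfl
  obtain ⟨hN, hZ⟩ := of_card D.card_C (t := ⟨D.t, htC⟩) (Subtype.ext D.tt) (fun h => D.t1 (congrArg Subtype.val h))
    (fun x => Subtype.ext (mem_centralizer_singleton_iff.1 x.2)) hy' (fun h => hne (congrArg Subtype.val h))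
  refine NoThreeCrit.of_centralizer D.t ?_ ?_ hN ?_
  · intro α
    obtain ⟨g, hg⟩ := D.conj_t (u := α D.t) (by rw [← map_mul, D.tt, map_one]) (fun h => D.t1 (by
      rw [← map_one α] at h
      exact α.injective h))
    refine ⟨g⁻¹, ?_⟩
    rw [← hg]
    group
  · intro g hg
    have hinj : Function.Injective (fun x : centralizer ({D.t} : Set K) =>
        (⟨g * x * g⁻¹, mem_centralizer_singleton_iff.2 (hg x (mem_centralizer_singleton_iff.1 x.2))⟩ :
          centralizer ({D.t} : Set K))) := by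
      intro a b hab
      apply Subtype.ext
      have h1 : g * (a : K) * g⁻¹ = g * b * g⁻¹ := congrArg Subtype.val hab
      simpa using h1
    have hsurj := Finite.surjective_of_injective hinj
    have h1 := hZ ⟨g * D.t * g⁻¹, mem_centralizer_singleton_iff.2 (hg D.t rfl)⟩ (by
      intro x
      obtain ⟨w, rfl⟩ := hsurj x
      apply Subtype.ext
      show g * (w : K) * g⁻¹ * (g * D.t * g⁻¹) = g * D.t * g⁻¹ * (g * w * g⁻¹)
      have h2 := mem_centralizer_singleton_iff.1 w.2
      calc g * (w : K) * g⁻¹ * (g * D.t * g⁻¹) = g * (w * D.t) * g⁻¹ := by group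
        _ = g * (D.t * w) * g⁻¹ := by rw [h2]
        _ = _ := by group)
    rcases h1 with h1 | h1
    · exfalso
      have h2 : g * D.t * g⁻¹ = 1 := congrArg Subtype.val h1
      exact D.t1 (conj_eq_one_iff.1 h2)
    · have h2 : g * D.t * g⁻¹ = D.t := congrArg Subtype.val h1
      rw [mul_inv_eq_iff_eq_mul] at h2
      exact h2
  · rintro δ ⟨k, hk⟩ hδ
    rw [D.aut_t δ (NoThreeCrit.odd_of_three_power hk) hδ]
    exact one_mem _

open Cfsg.Agent.SporadicB.J1.Mat Cfsg.Agent.SporadicB.J1.Data Cfsg.Agent.SporadicB.KTab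
open Cfsg.Agent.SporadicB.J1.Main Cfsg.Agent.UGT.EndJ1.Data
open Cfsg.Spor (J1)

def s0 : J1 := b
def s1 : J1 := c * b * c⁻¹
def s2 : J1 := e 2 * c * e 1
def c0 : Nat := cb
def c1 : Nat := mulC (mulC cc cb) cci
def c2 : Nat := mulC (mulC (ce 2) cc) (ce 1)

theorem rep0 : Rep s0 c0 := rep_b
theorem rep1 : Rep s1 c1 := (rep_c.mul rep_b).mul rep_ci
theorem rep2 : Rep s2 c2 := ((rep_e 2).mul rep_c).mul (rep_e 1)

def y : ℕ → J1 := fun i => if i = 0 then s0 else if i = 1 then s1 else s2

set_option maxRecDepth 100000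

theorem sq {g h : J1} {a b : Nat} (hg : Rep g a) (hh : Rep h b) (hab : powC (mulC a b) 2 cI = cI) :
    (g * h) ^ 2 = 1 := ((hg.mul hh).pow 2).eq Rep.one hab

theorem rel : Rel 3 y := by
  constructor
  · intro i hi
    interval_cases i
    · exact (rep0.pow 3).eq Rep.one (by decide +kernel)
    · exact (rep1.pow 3).eq Rep.one (by decide +kernel)
    · exact (rep2.pow 3).eq Rep.one (by decide +kernel)
  · intro i hi j hj hij
    interval_cases i <;> interval_cases j
    · exact absurd rfl hij
    · exact sq rep0 rep1 (by decide +kernel)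
    · exact sq rep0 rep2 (by decide +kernel)
    · exact sq rep1 rep0 (by decide +kernel)
    · exact absurd rfl hij
    · exact sq rep1 rep2 (by decide +kernel)
    · exact sq rep2 rep0 (by decide +kernel)
    · exact sq rep2 rep1 (by decide +kernel)
    · exact absurd rfl hij

theorem comm : ∀ i, y i * e 1 = e 1 * y i := by
  intro i
  by_cases h0 : i = 0
  · subst h0
    exact b_comm
  by_cases h1 : i = 1
  · subst h1
    exact (rep1.mul (rep_e 1)).eq ((rep_e 1).mul rep1) (by decide +kernel)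
  · have h2 : y i = s2 := by rw [y, if_neg h0, if_neg h1]
    rw [h2]
    exact (rep2.mul (rep_e 1)).eq ((rep_e 1).mul rep2) (by decide +kernel)

theorem y0_ne : y 0 ≠ 1 := rep_b.ne Rep.one (by decide +kernel)

theorem noThree : NoThree J1 := by
  obtain ⟨D⟩ := exists_dat
  obtain ⟨g, hg⟩ := D.conj_t (u := e 1) (e_sq 1) ((rep_e 1).ne Rep.one (by decide +kernel))
  have ht : D.t = MulAut.conj g⁻¹ (e 1) := by
    rw [MulAut.conj_apply, ← hg]; group
  refine of_dat D (y := fun i => MulAut.conj g⁻¹ (y i)) ⟨?_, ?_⟩ ?_ ?_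
  · intro i hi
    rw [← map_pow, rel.cube i hi, map_one]
  · intro i hi j hj hij
    rw [← map_mul, ← map_pow, rel.sq i hi j hj hij, map_one]
  · intro i
    rw [ht, ← map_mul, comm, map_mul]
  · intro h
    apply y0_ne
    rw [← map_one (MulAut.conj g⁻¹)] at h
    exact (MulAut.conj g⁻¹).injective h

end Cfsg.Agent.OddHalf.Quat.NoThreeSpor.J1

namespace Cfsg.Agent.OddHalf.Quat.NoThreeSpor

theorem j1 {K : Type*} [Group K] (h : Spor.IsoJ1 K) : NoThree K := by
  obtain ⟨e⟩ := h
  exact NoThree.congr e J1.noThree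

end Cfsg.Agent.OddHalf.Quat.NoThreeSpor

end

private theorem dce_f8b7b782683c : _root_.True := by
  try have : _root_.True := by simp only [_root_.Cfsg.Agent.OddHalf.Quat.NoThreeSpor.J1.y.eq_1]
  exact _root_.True.intro
end
end
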